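import Mathlib

/-!
# Generic points of irreducible components of closed subsets
-/

set_option autoImplicit false
universe u

namespace Groth.Agent.GenComp

variable {X : Type u} [TopologicalSpace X] [QuasiSober X]

/-- An irreducible component of a closed subset has a generic point, which is maximal. -/
theorem exists_genericPoint {C : Set X} (hC : IsClosed C) {Z : Set C} (hZ : Z ∈ irreducibleComponents C) :
    ∃ z ∈ C, closure {z} = Subtype.val '' Z ∧ ∀ z' ∈ C, z' ⤳ z → z ⤳ z' := by
  have hcl : IsClosed (Subtype.val '' Z) :=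
    hC.isClosedEmbedding_subtypeVal.isClosedMap _ (isClosed_of_mem_irreducibleComponents Z hZ)
  have hirr : IsIrreducible (Subtype.val '' Z) := hZ.1.image _ continuous_subtype_val.continuousOn
  obtain ⟨z, hz⟩ := QuasiSober.sober hirr hcl
  obtain ⟨⟨z0, hz0⟩, hzZ, rfl⟩ := hz.mem
  refine ⟨z0, hz0, hz, fun z' hz' hs => ?_⟩
  let z'' : C := ⟨z', hz'⟩
  have h1 : Z ⊆ closure {z''} := by
    intro w hw
    have : z0 ⤳ w.1 := hz.specializes ⟨w, hw, rfl⟩
    exact specializes_iff_mem_closure.mp ((Topology.IsInducing.subtypeVal.specializes_iff).mp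
      (show z''.1 ⤳ w.1 from hs.trans this))
  have h2 : closure {z''} ⊆ Z := hZ.2 isIrreducible_singleton.closure h1
  exact hz.specializes ⟨z'', h2 (subset_closure rfl), rfl⟩

/-- Every point of a closed subset lies in a component with generic point. -/
theorem exists_maximal {C : Set X} (hC : IsClosed C) {x : X} (hx : x ∈ C) :
    ∃ z ∈ C, z ⤳ x ∧ ∀ z' ∈ C, z' ⤳ z → z ⤳ z' := by
  obtain ⟨z, hz, hcl, hmax⟩ := exists_genericPoint hC
    (irreducibleComponent_mem_irreducibleComponents (⟨x, hx⟩ : C))
  refine ⟨z, hz, ?_, hmax⟩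
  rw [specializes_iff_mem_closure, hcl]
  exact ⟨⟨x, hx⟩, mem_irreducibleComponent, rfl⟩

/-- The closure of a maximal point is an irreducible component. -/
theorem closure_mem_irreducibleComponents {z : X} (hz : ∀ z' : X, z' ⤳ z → z ⤳ z') :
    closure ({z} : Set X) ∈ irreducibleComponents X := by
  refine ⟨isIrreducible_singleton.closure, fun T hT hle => ?_⟩
  obtain ⟨t, ht⟩ := QuasiSober.sober hT.closure isClosed_closure
  have h1 : t ⤳ z := ht.specializes (subset_closure (hle (subset_closure rfl)))
  intro w hw
  exact specializes_iff_mem_closure.mp ((hz t h1).trans (ht.specializes (subset_closure hw)))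

end Groth.Agent.GenComp
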