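import Mathlib
import Groth.Agent.GenComp.Basic

/-!
# Noetherian irreducible schemes with open generic point
-/

set_option autoImplicit false
set_option backward.isDefEq.respectTransparency false
universe u

open AlgebraicGeometry TopologicalSpace CategoryTheory

namespace Groth.Agent.GenComp

/-- If `f` lies in every prime other than the smallest prime `N`, the other primes are minimal over `f`. -/
theorem mem_minimalPrimes_of_open {A : Type u} [CommRing A] [IsNoetherianRing A] (N : Ideal A) [N.IsPrime]
    (hN : ∀ P : Ideal A, P.IsPrime → N ≤ P) {f : A} (hfN : f ∉ N)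
    (hf : ∀ P : Ideal A, P.IsPrime → P ≠ N → f ∈ P) (P : Ideal A) [P.IsPrime] (hP : P ≠ N) :
    P ∈ (Ideal.span {f}).minimalPrimes := by
  classical
  have hfin := Ideal.finite_minimalPrimes_of_isNoetherianRing A (Ideal.span {f})
  have hsub : (P : Set A) ⊆ ⋃ q ∈ hfin.toFinset, ((id q : Ideal A) : Set A) := by
    intro a ha
    rw [Set.mem_iUnion₂]
    by_cases haN : a ∈ N
    · obtain ⟨q, hq, -⟩ := Ideal.exists_minimalPrimes_le (I := Ideal.span {f}) (J := P)
        ((Ideal.span_singleton_le_iff_mem _).mpr (hf P inferInstance hP))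
      exact ⟨q, hfin.mem_toFinset.mpr hq, hN q hq.1.1 haN⟩
    · obtain ⟨q, hq, hqP⟩ := Ideal.exists_minimalPrimes_le (I := Ideal.span {a}) (J := P)
        ((Ideal.span_singleton_le_iff_mem _).mpr ha)
      haveI := hq.1.1
      have haq : a ∈ q := (Ideal.span_singleton_le_iff_mem _).mp hq.1.2
      have hqN : q ≠ N := fun e => haN (e ▸ haq)
      refine ⟨q, hfin.mem_toFinset.mpr ⟨⟨inferInstance,
        (Ideal.span_singleton_le_iff_mem _).mpr (hf q inferInstance hqN)⟩, fun r hr hrq => ?_⟩, haq⟩
      by_contra hne
      haveI := hr.1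
      have hlt : r < q := lt_of_le_not_ge hrq hne
      have hfr : f ∈ r := (Ideal.span_singleton_le_iff_mem _).mp hr.2
      have hNr : N < r := lt_of_le_of_ne (hN r hr.1) (fun e => hfN (e.symm ▸ hfr))
      have h1 : q.height ≤ 1 := by
        refine le_trans (Ideal.height_le_spanRank_toENat_of_mem_minimal_primes _ _ hq) ?_
        rw [← Cardinal.toENat.map_one]
        refine OrderHomClass.mono Cardinal.toENat ?_
        calc (Ideal.span {a}).spanRank ≤ Cardinal.mk ({a} : Set A) := Submodule.spanRank_span_le_card _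
          _ = 1 := Cardinal.mk_singleton a
      have h2 : r.height + 1 ≤ q.height := Order.add_one_le_of_lt (Ideal.height_strict_mono_of_isPrime hlt)
      have h3 : N.height < r.height := Ideal.height_strict_mono_of_isPrime hNr
      have h4 : 1 ≤ r.height := Order.one_le_iff_pos.mpr (lt_of_le_of_lt bot_le h3)
      have h5 : (1 : ℕ∞) + 1 ≤ 1 := le_trans (add_le_add_left h4 1) (h2.trans h1)
      exact absurd h5 (by decide)
  obtain ⟨q, hq, hle⟩ := (Ideal.subset_union_prime ⊥ ⊥ (fun q hq _ _ => (hfin.mem_toFinset.mp hq).1.1)).mp hsub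
  have hq' := hfin.mem_toFinset.mp hq
  have : q ≤ P := hq'.2 ⟨inferInstance, (Ideal.span_singleton_le_iff_mem _).mpr (hf P inferInstance hP)⟩ hle
  rwa [le_antisymm hle this]

/-- `Spec` with open generic point is finite and all its other points are closed points. -/
theorem finite_and_maximal {A : Type u} [CommRing A] [IsNoetherianRing A] (η : PrimeSpectrum A)
    (hη : ∀ P, η ⤳ P) (ho : IsOpen ({η} : Set (PrimeSpectrum A))) :
    Finite (PrimeSpectrum A) ∧ ∀ P Q : PrimeSpectrum A, P ≠ η → P ⤳ Q → P = Q := by
  obtain ⟨-, ⟨f, rfl⟩, hηf, hf⟩ :=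
    PrimeSpectrum.isTopologicalBasis_basic_opens.exists_subset_of_mem_open (Set.mem_singleton η) ho
  have hN : ∀ P : Ideal A, P.IsPrime → η.asIdeal ≤ P := fun P hP =>
    (PrimeSpectrum.le_iff_specializes _ ⟨P, hP⟩).mpr (hη ⟨P, hP⟩)
  have hfP : ∀ P : Ideal A, P.IsPrime → P ≠ η.asIdeal → f ∈ P := fun P hP hne => by
    by_contra h
    exact hne (congrArg PrimeSpectrum.asIdeal (hf (show (⟨P, hP⟩ : PrimeSpectrum A) ∈ _ from h)))
  have key : ∀ P : PrimeSpectrum A, P ≠ η → P.asIdeal ∈ (Ideal.span {f}).minimalPrimes := fun P hP =>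
    mem_minimalPrimes_of_open η.asIdeal hN hηf hfP P.asIdeal (fun e => hP (PrimeSpectrum.ext e))
  constructor
  · have hfin := (Ideal.finite_minimalPrimes_of_isNoetherianRing A (Ideal.span {f})).insert η.asIdeal
    haveI := hfin.to_subtype
    refine Finite.of_injective (fun P : PrimeSpectrum A =>
      (⟨P.asIdeal, ?_⟩ : ↥(insert η.asIdeal (Ideal.span {f}).minimalPrimes))) ?_
    · by_cases h : P = η
      exacts [Or.inl (h ▸ rfl), Or.inr (key P h)]
    · exact fun P Q h => PrimeSpectrum.ext (congrArg Subtype.val h)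
  · intro P Q hP hPQ
    have hle := (PrimeSpectrum.le_iff_specializes P Q).mpr hPQ
    have hQ : Q ≠ η := fun e => hP ((Specializes.antisymm (e ▸ hPQ) (hη P)).eq)
    exact PrimeSpectrum.ext (le_antisymm hle ((key Q hQ).2 (key P hP).1 hle))

/-- A Noetherian irreducible scheme with open generic point is finite with closed non-generic points. -/
theorem finite_and_closed_of_open (X : Scheme.{u}) [IsNoetherian X] [IrreducibleSpace X]
    (ho : IsOpen ({genericPoint X} : Set X)) :
    Finite X ∧ ∀ y : X, y ≠ genericPoint X → IsClosed ({y} : Set X) := by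
  have chart : ∀ U : X.Opens, IsAffineOpen U → (U : Set X).Nonempty → (U : Set X).Finite ∧
      ∀ p q : X, p ∈ U → q ∈ U → p ≠ genericPoint X → p ⤳ q → p = q := by
    intro U hU hne
    haveI := IsLocallyNoetherian.component_noetherian (X := X) ⟨U, hU⟩
    have hgU : genericPoint X ∈ U := by
      obtain ⟨y, hy⟩ := hne
      exact (genericPoint_specializes y).mem_open U.2 hy
    have hemb := hU.fromSpec.isOpenEmbedding
    have hrg : Set.range hU.fromSpec = (U : Set X) := hU.range_fromSpec
    obtain ⟨η, hη⟩ : genericPoint X ∈ Set.range hU.fromSpec := by rw [hrg]; exact hgU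
    obtain ⟨hfin, hmax⟩ := finite_and_maximal (A := Γ(X, U)) η
      (fun P => hemb.isInducing.specializes_iff.mp (hη ▸ genericPoint_specializes _))
      (by
        have h0 := ho.preimage hU.fromSpec.continuous
        rwa [show hU.fromSpec ⁻¹' {genericPoint X} = ({η} : Set (PrimeSpectrum Γ(X, U))) from
          Set.ext fun P => ⟨fun e => hemb.injective (Eq.trans e hη.symm), fun e => by
            rw [Set.mem_singleton_iff.mp e]; exact hη⟩] at h0)
    haveI : Finite (Spec Γ(X, U)) := hfin
    refine ⟨hrg ▸ Set.finite_range _, fun p q hp hq hpg hpq => ?_⟩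
    obtain ⟨P, rfl⟩ := (hrg.symm ▸ hp : p ∈ Set.range hU.fromSpec)
    obtain ⟨Q, rfl⟩ := (hrg.symm ▸ hq : q ∈ Set.range hU.fromSpec)
    rw [hmax P Q (fun e => hpg (by rw [e]; exact hη)) (hemb.isInducing.specializes_iff.mp hpq)]
  constructor
  · haveI : CompactSpace X := inferInstance
    haveI : Finite X.affineCover.finiteSubcover.I₀ := Finite.of_fintype _
    have hall : (Set.univ : Set X) = ⋃ i, ((X.affineCover.finiteSubcover.f i).opensRange : Set X) :=
      X.affineCover.finiteSubcover.iUnion_range.symm
    refine Set.finite_univ_iff.mp (hall ▸ Set.finite_iUnion fun i => ?_)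
    by_cases hne : ((X.affineCover.finiteSubcover.f i).opensRange : Set X).Nonempty
    · exact (chart _ (isAffineOpen_opensRange _) hne).1
    · rw [Set.not_nonempty_iff_eq_empty.mp hne]; exact Set.finite_empty
  · intro y hy
    refine closure_subset_iff_isClosed.mp fun q hq => ?_
    have hyq := specializes_iff_mem_closure.mpr hq
    obtain ⟨U, hU, hqU, -⟩ := exists_isAffineOpen_mem_and_subset (X := X) (x := q) (U := ⊤) trivial
    exact ((chart U hU ⟨q, hqU⟩).2 y q (hyq.mem_open U.2 hqU) hqU hy hyq).symm

/-- Non-generic points closed is dimension at most one. -/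
theorem topologicalKrullDim_le_one_iff (X : Scheme.{u}) [IrreducibleSpace X] :
    topologicalKrullDim X ≤ 1 ↔ ∀ y : X, y ≠ genericPoint X → IsClosed ({y} : Set X) := by
  constructor
  · intro h y hy
    refine closure_subset_iff_isClosed.mp fun q hq => ?_
    by_contra hne
    have h1 : y ⤳ q := specializes_iff_mem_closure.mpr hq
    let C : X → IrreducibleCloseds X := fun z =>
      ⟨closure {z}, isIrreducible_singleton.closure, isClosed_closure⟩
    have hlt : ∀ a b : X, b ⤳ a → a ≠ b → C a < C b := fun a b hba hne => by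
      refine lt_of_le_not_ge (closure_minimal (Set.singleton_subset_iff.mpr
        (specializes_iff_mem_closure.mp hba)) isClosed_closure) fun hle => hne ?_
      exact (Specializes.antisymm (specializes_iff_mem_closure.mpr (hle (subset_closure rfl))) hba).eq
    let l : LTSeries (IrreducibleCloseds X) :=
      ((RelSeries.singleton _ (C q)).snoc (C y) (hlt q y h1 hne)).snoc (C (genericPoint X))
        (by simpa using hlt y (genericPoint X) (genericPoint_specializes y) hy)
    have h2 := Order.LTSeries.length_le_krullDim l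
    have h3 : l.length = 2 := rfl
    rw [h3] at h2
    exact absurd (h2.trans h) (by decide)
  · intro h
    refine iSup_le fun l => ?_
    by_contra hl
    have hlen : 2 ≤ l.length := by
      by_contra h2
      apply hl
      have : l.length ≤ 1 := by omega
      exact_mod_cast this
    have hlt : l ⟨0, by omega⟩ < l ⟨1, by omega⟩ := l.strictMono (show (_ : ℕ) < _ by norm_num)
    have hlt2 : l ⟨1, by omega⟩ < l ⟨2, by omega⟩ := l.strictMono (show (_ : ℕ) < _ by norm_num)
    obtain ⟨z, hz⟩ := QuasiSober.sober (l ⟨1, by omega⟩).isIrreducible (l ⟨1, by omega⟩).isClosed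
    by_cases hzg : z = genericPoint X
    · refine hlt2.not_ge fun w _ => ?_
      exact hz.specializes_iff_mem.mp (hzg ▸ genericPoint_specializes w)
    · have hcl : ((l ⟨1, by omega⟩ : IrreducibleCloseds X) : Set X) = {z} := by
        rw [← hz.def, (h z hzg).closure_eq]
      obtain ⟨w, hw⟩ := (l ⟨0, by omega⟩).isIrreducible.nonempty
      refine hlt.not_ge fun v hv => ?_
      have h1 : w = z := by
        have := hlt.le hw
        exact (Set.ext_iff.mp hcl w).mp this
      rw [(Set.ext_iff.mp hcl v).mp hv, ← h1]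
      exact hw

end Groth.Agent.GenComp
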