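import Mathlib
import Groth.Agent.GenComp.Basic

/-!
# Isolated points of Noetherian sober spaces
-/

set_option autoImplicit false
universe u

open AlgebraicGeometry TopologicalSpace

namespace Groth.Agent.GenComp

/-- A closed point without proper generisation in a Noetherian sober space is isolated. -/
theorem isOpen_singleton_of_noetherianSpace {X : Type u} [TopologicalSpace X] [QuasiSober X] [NoetherianSpace X]
    {x : X} (hc : IsClosed ({x} : Set X)) (hg : ∀ x' : X, x' ⤳ x → x' = x) : IsOpen ({x} : Set X) := by
  have hfin : {Z ∈ irreducibleComponents X | x ∉ Z}.Finite :=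
    NoetherianSpace.finite_irreducibleComponents.subset fun Z hZ => hZ.1
  have heq : ({x} : Set X) = (⋃₀ {Z ∈ irreducibleComponents X | x ∉ Z})ᶜ := by
    ext y
    constructor
    · rintro rfl
      simp
    · intro hy
      by_contra hyx
      obtain ⟨z, -, hzy, hmax⟩ := exists_maximal isClosed_univ (Set.mem_univ y)
      refine hy ⟨closure {z}, ⟨closure_mem_irreducibleComponents (fun z' h => hmax z' trivial h),
        fun hx => hyx ?_⟩, specializes_iff_mem_closure.mp hzy⟩
      have hzx := hg z (specializes_iff_mem_closure.mpr hx)
      subst hzx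
      have := specializes_iff_mem_closure.mp hzy
      rwa [hc.closure_eq] at this
  rw [heq, isOpen_compl_iff, Set.sUnion_eq_biUnion]
  exact hfin.isClosed_biUnion fun Z hZ => isClosed_of_mem_irreducibleComponents Z hZ.1

/-- A closed point without proper generisation of a locally Noetherian scheme is isolated. -/
theorem isOpen_singleton_of_isLocallyNoetherian {X : Scheme.{u}} [IsLocallyNoetherian X]
    {x : X} (hc : IsClosed ({x} : Set X)) (hg : ∀ x' : X, x' ⤳ x → x' = x) : IsOpen ({x} : Set X) := by
  obtain ⟨U, hU, hxU, -⟩ := exists_isAffineOpen_mem_and_subset (X := X) (x := x) (U := ⊤) trivial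
  haveI : NoetherianSpace (U : Scheme.{u}) := by
    haveI := IsLocallyNoetherian.component_noetherian (X := X) ⟨U, hU⟩
    exact (noetherianSpace_of_isAffineOpen U hU)
  let x0 : (U : Scheme.{u}) := ⟨x, hxU⟩
  have h := isOpen_singleton_of_noetherianSpace (x := x0) ?_ (fun x' h => ?_)
  · have h2 := U.ι.isOpenEmbedding.isOpenMap _ h
    rwa [Set.image_singleton] at h2
  · convert hc.preimage U.ι.continuous using 1
    ext w
    simp only [Set.mem_singleton_iff, Set.mem_preimage]
    exact ⟨fun h => by subst h; rfl, fun h => U.ι.isOpenEmbedding.injective h⟩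
  · exact U.ι.isOpenEmbedding.injective (hg _ (h.map U.ι.continuous))

end Groth.Agent.GenComp
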